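import Mathlib

/-!
Numerical facts behind the largest element order of the projective general unitary group.

`au q k` is `q^k - (-1)^k` and `bu q k` is its quotient by `q + 1`.
-/

set_option autoImplicit false

namespace Cfsg.Agent.Small.UMaxOrd

/-- `q^k - (-1)^k` -/
def au (q k : ℕ) : ℕ := if Even k then q ^ k - 1 else q ^ k + 1

/-- `(q^k - (-1)^k) / (q + 1)` -/
def bu (q k : ℕ) : ℕ := au q k / (q + 1)

variable {q : ℕ}

theorem au_le (q k : ℕ) : au q k ≤ q ^ k + 1 := by
  rw [au]; split <;> omega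

theorem au_even (q : ℕ) {k : ℕ} (h : Even k) : au q k = q ^ k - 1 := if_pos h

theorem au_odd (q : ℕ) {k : ℕ} (h : ¬ Even k) : au q k = q ^ k + 1 := if_neg h

theorem au_dvd (q k : ℕ) : q + 1 ∣ au q k := by
  by_cases h : Even k
  · rw [au_even q h]
    obtain ⟨j, rfl⟩ := h
    have e : q + 1 ∣ q ^ 2 - 1 := by
      have h1 : (q + 1) * (q - 1) = q ^ 2 - 1 := by
        have := Nat.sq_sub_sq q 1
        simpa using this.symm
      exact Dvd.intro _ h1
    rw [← two_mul, pow_mul]
    exact e.trans (Nat.sub_one_dvd_pow_sub_one _ _)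
  · rw [au_odd q h]
    simpa using (Nat.not_even_iff_odd.1 h).nat_add_dvd_pow_add_pow q 1

theorem mul_bu (q k : ℕ) : (q + 1) * bu q k = au q k := Nat.mul_div_cancel' (au_dvd q k)

theorem au_pos (hq : 2 ≤ q) {k : ℕ} (hk : 1 ≤ k) : 0 < au q k := by
  have : 2 ≤ q ^ k := le_trans hq (Nat.le_self_pow (by omega) q)
  rw [au]; split <;> omega

theorem bu_pos (hq : 2 ≤ q) {k : ℕ} (hk : 1 ≤ k) : 0 < bu q k := by
  have h := au_pos hq hk
  rw [← mul_bu] at h
  exact Nat.pos_of_mul_pos_left h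

theorem bu_le (hq : 2 ≤ q) {k : ℕ} (hk : 1 ≤ k) : bu q k ≤ q ^ (k - 1) := by
  obtain ⟨j, rfl⟩ : ∃ j, k = j + 1 := ⟨k - 1, by omega⟩
  have h := au_le q (j + 1)
  have h1 : 1 ≤ q ^ j := Nat.one_le_pow _ _ (by omega)
  have : (q + 1) * bu q (j + 1) ≤ (q + 1) * q ^ j := by rw [mul_bu, add_mul, one_mul, ← pow_succ']; omega
  simp only [Nat.add_sub_cancel]
  exact Nat.le_of_mul_le_mul_left this (by omega)

theorem bu_one (q : ℕ) : bu q 1 = 1 := by
  have h : au q 1 = q + 1 := by rw [au_odd q (by simp), pow_one]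
  rw [bu, h, Nat.div_self (by omega)]

/-- what is used about the least power of `p` above the largest multiplicity -/
structure IsPUp (p q M E : ℕ) : Prop where
  one : M ≤ 1 → E = 1
  two : M = 2 → E ≤ p
  three : M ≤ p → E ≤ p
  lin : 2 ≤ M → E ≤ p * (M - 1)
  four : q = 2 → M ≤ 4 → E ≤ 4

theorem isPUp_clog (p q M : ℕ) (hp : 2 ≤ p) (hpq : q = 2 → p = 2) : IsPUp p q M (p ^ Nat.clog p M) := by
  have key : ∀ e : ℕ, M ≤ p ^ e → p ^ Nat.clog p M ≤ p ^ e := fun e he =>
    Nat.pow_le_pow_right (by omega) (Nat.clog_le_of_le_pow he)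
  constructor
  · intro h; rw [Nat.clog_of_right_le_one h, pow_zero]
  · intro h; simpa using key 1 (by rw [pow_one]; omega)
  · intro h; simpa using key 1 (by rw [pow_one]; omega)
  · intro h
    have h1 := Nat.pow_pred_clog_lt_self (b := p) (by omega) (show 1 < M by omega)
    have h2 : 0 < Nat.clog p M := Nat.clog_pos (by omega) (by omega)
    calc p ^ Nat.clog p M = p * p ^ (Nat.clog p M).pred := by
          rw [← pow_succ']; congr 1; simp only [Nat.pred_eq_sub_one]; omega
      _ ≤ p * (M - 1) := Nat.mul_le_mul_left _ (by omega)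
  · intro h h4
    have := hpq h
    subst this
    simpa using key 2 (by norm_num; omega)

theorem lin_lt (hq : 2 ≤ q) : ∀ j : ℕ, j + 1 ≤ q ^ j
  | 0 => by simp
  | j + 1 => by
    have ih := lin_lt hq j
    rw [pow_succ]
    nlinarith

theorem IsPUp.le_pow {p M E : ℕ} (h : IsPUp p q M E) (hq : 2 ≤ q) (hpq : p ≤ q) (hM : 1 ≤ M) :
    E ≤ q ^ (M - 1) := by
  rcases Nat.lt_or_ge M 2 with h1 | h1
  · rw [h.one (by omega)]; exact Nat.one_le_pow _ _ (by omega)
  · obtain ⟨j, rfl⟩ : ∃ j, M = j + 2 := ⟨M - 2, by omega⟩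
    have := h.lin h1
    have h2 := lin_lt hq j
    rw [show j + 2 - 1 = j + 1 by omega] at this ⊢
    rw [pow_succ']
    exact this.trans (Nat.mul_le_mul hpq h2)

/-- the main uniform target -/
theorem three_terms (hq : 2 ≤ q) {d : ℕ} (hd : 3 ≤ d) : (q + 1) * q ^ (d - 3) ≤ q ^ (d - 1) - 1 := by
  obtain ⟨j, rfl⟩ : ∃ j, d = j + 3 := ⟨d - 3, by omega⟩
  rw [show j + 3 - 1 = j + 2 by omega, Nat.add_sub_cancel, pow_add]
  have h1 : 1 ≤ q ^ j := Nat.one_le_pow _ _ (by omega)
  have h2 : q + 2 ≤ q ^ 2 := by nlinarith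
  have : (q + 1) * q ^ j + 1 ≤ q ^ j * q ^ 2 := by nlinarith [Nat.mul_le_mul_left (q ^ j) h2]
  omega

/-- the targets -/
structure Target (p q d T : ℕ) : Prop where
  base : q ^ (d - 1) - 1 ≤ T
  even : Even d → q ^ (d - 1) + 1 ≤ T
  odd : Odd d → (p ^ (d - 2) + 1) * p ≤ T ∨ p * p ≤ q
  evenTwo : Even d → q = 2 → 4 * (2 ^ (d - 3) + 1) ≤ T
  oddTwo : Odd d → q = 2 → 2 ^ (d - 1) + 2 ≤ T

variable {p d T : ℕ}

/-- one orbit of length `k` with multiplicity `M` -/
theorem single (hp : 2 ≤ p) (hpq : p ≤ q) (hq2 : q = 2 → p = 2) (hd : 3 ≤ d) (h32 : ¬ (d = 3 ∧ q = 2))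
    (hq3 : p = 2 → p < q → 4 ≤ q)
    {k M E : ℕ} (hk : 1 ≤ k) (hkM : M * k = d) (hE : IsPUp p q M E) : bu q k * E ≤ q ^ (d - 1) - 1 := by
  have hq : 2 ≤ q := hp.trans hpq
  have hM : 1 ≤ M := by rcases Nat.eq_zero_or_pos M with rfl | h <;> omega
  rcases Nat.lt_or_ge M 2 with h1 | h1
  · obtain rfl : M = 1 := by omega
    rw [hE.one le_rfl, mul_one]
    rw [one_mul] at hkM
    subst hkM
    have h := au_le q k
    have e : (q + 1) * bu q k = au q k := mul_bu q k
    obtain ⟨j, rfl⟩ : ∃ j, k = j + 3 := ⟨k - 3, by omega⟩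
    rw [show j + 3 - 1 = j + 2 by omega]
    have h1 : 1 ≤ q ^ j := Nat.one_le_pow _ _ (by omega)
    have h2 : q + 2 ≤ q ^ (j + 2) := by rw [pow_add]; nlinarith
    have h3 : (q + 1) * bu q (j + 3) ≤ (q + 1) * (q ^ (j + 2) - 1) := by
      rw [Nat.mul_sub, mul_one, add_mul q 1 (q ^ (j + 2)), one_mul, ← pow_succ', show j + 2 + 1 = j + 3 by omega]
      omega
    exact Nat.le_of_mul_le_mul_left h3 (by omega)
  · rcases Nat.lt_or_ge k 2 with h2 | h2
    · obtain rfl : k = 1 := by omega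
      rw [mul_one] at hkM
      subst hkM
      rw [bu_one, one_mul]
      rcases Nat.lt_or_ge M 4 with h4 | h4
      · obtain rfl : M = 3 := by omega
        have h5 := hE.lin (by omega)
        have h6 : q ≠ 2 := fun h => h32 ⟨rfl, h⟩
        simp only [show (3 : ℕ) - 1 = 2 by omega] at h5 ⊢
        rcases Nat.lt_or_ge p 3 with h7 | h7
        · have : p = 2 := by omega
          have := hq3 this (by omega)
          subst p
          have : 16 ≤ q ^ 2 := by nlinarith
          omega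
        · have := hE.three h7
          have : q * 2 + 1 ≤ q ^ 2 := by nlinarith
          omega
      · obtain ⟨j, rfl⟩ : ∃ j, M = j + 4 := ⟨M - 4, by omega⟩
        have h5 := hE.lin h1
        rw [show j + 4 - 1 = j + 3 by omega] at h5 ⊢
        have h6 := lin_lt hq j
        have h7 : p * (j + 3) < q ^ (j + 3) := by
          rw [pow_add]
          have : p * (j + 3) ≤ q * (j + 3) := Nat.mul_le_mul_right _ hpq
          have h8 : 4 * (j + 1) ≤ q ^ 2 * q ^ j := Nat.mul_le_mul (by nlinarith) h6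
          have h9 : q * (j + 3) < q * (q ^ 2 * q ^ j) := Nat.mul_lt_mul_of_pos_left (by omega) (by omega)
          nlinarith
        omega
    · have h3 := bu_le hq hk
      have h4 := hE.le_pow hq hpq hM
      have h5 : bu q k * E ≤ q ^ (k - 1 + (M - 1)) := by rw [pow_add]; exact Nat.mul_le_mul h3 h4
      have h6 : k + M ≤ d := by nlinarith
      have h7 : q ^ (k - 1 + (M - 1)) < q ^ (d - 1) := Nat.pow_lt_pow_right (by omega) (by omega)
      omega

/-- three or more orbits -/
theorem many (hpq : p ≤ q) (hq : 2 ≤ q) (hd : 3 ≤ d) {k₁ k₂ M E P n : ℕ} (hk₁ : 1 ≤ k₁) (hk₂ : 1 ≤ k₂)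
    (hn : 1 ≤ n) (hP : P ≤ q ^ (n - 1)) (hM : 1 ≤ M) (hsum : M * k₁ + k₂ + n ≤ d) (hE : IsPUp p q M E) :
    (q + 1) * (bu q k₁ * (bu q k₂ * P)) * E ≤ q ^ (d - 1) - 1 := by
  refine le_trans ?_ (three_terms hq hd)
  rw [mul_assoc]
  refine Nat.mul_le_mul_left _ ?_
  calc bu q k₁ * (bu q k₂ * P) * E
      ≤ q ^ (k₁ - 1) * (q ^ (k₂ - 1) * q ^ (n - 1)) * q ^ (M - 1) :=
        Nat.mul_le_mul (Nat.mul_le_mul (bu_le hq hk₁) (Nat.mul_le_mul (bu_le hq hk₂) hP)) (hE.le_pow hq hpq hM)
    _ = q ^ (k₁ - 1 + ((k₂ - 1) + (n - 1)) + (M - 1)) := by rw [pow_add, pow_add, pow_add]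
    _ ≤ q ^ (d - 3) := Nat.pow_le_pow_right (by omega) (by
        obtain ⟨a, rfl⟩ : ∃ a, k₁ = a + 1 := ⟨k₁ - 1, by omega⟩
        obtain ⟨b, rfl⟩ : ∃ b, M = b + 1 := ⟨M - 1, by omega⟩
        have : (b + 1) * (a + 1) = b * a + b + a + 1 := by ring
        omega)

/-- two orbits, both simple -/
theorem two_simple (hq : 2 ≤ q) (hd : 3 ≤ d) (hT : Target p q d T) {k k' : ℕ} (hk : 1 ≤ k) (hk' : 1 ≤ k')
    (hsum : k + k' = d) : (q + 1) * (bu q k * bu q k') ≤ T := by
  wlog hle : k ≤ k' generalizing k k'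
  · rw [mul_comm (bu q k)]; exact this hk' hk (by omega) (by omega)
  rcases Nat.lt_or_ge k 2 with h1 | h1
  · obtain rfl : k = 1 := by omega
    rw [bu_one, one_mul, mul_bu, show k' = d - 1 by omega]
    by_cases he : Even (d - 1)
    · rw [au_even q he]; exact hT.base
    · rw [au_odd q he]
      refine hT.even ?_
      rw [show d = (d - 1) + 1 by omega]
      exact Nat.even_add_one.2 he
  · refine le_trans ?_ hT.base
    refine Nat.le_of_mul_le_mul_left (?_ : (q + 1) * _ ≤ (q + 1) * _) (Nat.succ_pos q)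
    rw [show (q + 1) * ((q + 1) * (bu q k * bu q k')) = au q k * au q k' by rw [← mul_bu q k, ← mul_bu q k']; ring,
      Nat.mul_sub, mul_one]
    have hA : ∀ j : ℕ, 1 ≤ q ^ j := fun j => Nat.one_le_pow _ _ (by omega)
    have hle2 : k' ≤ d - 2 := by omega
    have hsd : q ^ k * q ^ k' = q ^ d := by rw [← pow_add, hsum]
    have hsplit : (q + 1) * q ^ (d - 1) = q ^ d + q ^ (d - 1) := by
      rw [add_mul, one_mul, ← pow_succ', show d - 1 + 1 = d by omega]
    have hk2 : q ^ k' ≤ q ^ (d - 2) := Nat.pow_le_pow_right (by omega) hle2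
    have hk1 : q ^ k ≤ q ^ k' := Nat.pow_le_pow_right (by omega) hle
    have hd1 : q ^ (d - 1) = q * q ^ (d - 2) := by rw [← pow_succ']; congr 1; omega
    have h2d : q + 2 ≤ q ^ (d - 1) := by
      have : q ^ 2 ≤ q ^ (d - 1) := Nat.pow_le_pow_right (by omega) (by omega)
      have : q + 2 ≤ q ^ 2 := by nlinarith
      omega
    have hd2 : q ^ 2 ≤ q ^ k := Nat.pow_le_pow_right (by omega) h1
    rw [hsplit]
    by_cases e1 : Even k <;> by_cases e2 : Even k'
    · rw [au_even q e1, au_even q e2]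
      have : (q ^ k - 1) * (q ^ k' - 1) ≤ q ^ d := (Nat.mul_le_mul (Nat.sub_le _ _) (Nat.sub_le _ _)).trans_eq hsd
      have := h2d
      omega
    · rw [au_even q e1, au_odd q e2, Nat.sub_mul, one_mul, mul_add, mul_one, hsd]
      have := h2d
      omega
    · rw [au_odd q e1, au_even q e2, add_mul, one_mul, Nat.mul_sub, mul_one, hsd]
      have h5 : q ^ k' + q + 1 ≤ q ^ (d - 1) := by
        rw [hd1]
        have : 2 * q ^ (d - 2) ≤ q * q ^ (d - 2) := Nat.mul_le_mul_right _ hq
        have : q + 1 ≤ q ^ 2 := by nlinarith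
        omega
      omega
    · rw [au_odd q e1, au_odd q e2, add_mul, one_mul, mul_add, mul_one, hsd]
      have hk3 : 3 ≤ k := by
        rcases Nat.lt_or_ge k 3 with h | h
        · exact absurd (show Even k by rw [show k = 2 by omega]; exact even_two) e1
        · exact h
      have hk3' : q ^ k' ≤ q ^ (d - 3) := Nat.pow_le_pow_right (by omega) (by omega)
      have hd3 : q ^ (d - 1) = q * q * q ^ (d - 3) := by rw [← sq, ← pow_add]; congr 1; omega
      have : 4 * q ^ (d - 3) ≤ q * q * q ^ (d - 3) := Nat.mul_le_mul_right _ (by nlinarith)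
      have : q ^ 3 ≤ q ^ k := Nat.pow_le_pow_right (by omega) hk3
      have : q + 2 ≤ q ^ 3 := by nlinarith [Nat.pow_le_pow_left hq 3]
      omega

/-- two orbits, the larger multiplicity at least two -/
theorem two_general (hp : 2 ≤ p) (hpq : p ≤ q) (hqp : p = q ∨ p * p ≤ q) (hq2 : q = 2 → p = 2) (hd : 3 ≤ d)
    (hT : Target p q d T) {k k' M m' E : ℕ} (hk : 1 ≤ k) (hk' : 1 ≤ k') (hm' : 1 ≤ m') (hM : 2 ≤ M)
    (hsum : M * k + m' * k' = d) (hE : IsPUp p q M E) : (q + 1) * (bu q k * bu q k') * E ≤ T := by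
  have hq : 2 ≤ q := hp.trans hpq
  rcases Nat.lt_or_ge k 2 with h1 | h1
  swap
  · refine le_trans ?_ ((three_terms hq hd).trans hT.base)
    rw [mul_assoc]
    refine Nat.mul_le_mul_left _ ?_
    calc bu q k * bu q k' * E ≤ q ^ (k - 1) * q ^ (k' - 1) * q ^ (M - 1) :=
          Nat.mul_le_mul (Nat.mul_le_mul (bu_le hq hk) (bu_le hq hk')) (hE.le_pow hq hpq (by omega))
      _ = q ^ (k - 1 + (k' - 1) + (M - 1)) := by rw [pow_add, pow_add]
      _ ≤ q ^ (d - 3) := Nat.pow_le_pow_right (by omega) (by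
          obtain ⟨a, rfl⟩ : ∃ a, k = a + 2 := ⟨k - 2, by omega⟩
          obtain ⟨b, rfl⟩ : ∃ b, M = b + 2 := ⟨M - 2, by omega⟩
          have : k' ≤ m' * k' := Nat.le_mul_of_pos_left _ (by omega)
          have : (b + 2) * (a + 2) = b * a + 2 * b + 2 * a + 4 := by ring
          omega)
  obtain rfl : k = 1 := by omega
  rw [bu_one, one_mul, mul_bu]
  rw [mul_one] at hsum
  have hau : au q k' ≤ q ^ k' + 1 := au_le q k'
  have hEp := hE.le_pow hq hpq (M := M) (by omega)
  have h2E := hE.lin hM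
  rcases Nat.lt_or_ge m' 2 with hm | hm
  swap
  · -- a repeated second orbit
    refine le_trans ?_ hT.base
    have h2 : 2 * k' ≤ m' * k' := Nat.mul_le_mul_right _ hm
    have h3 : au q k' * E ≤ q ^ (k' + (M - 1)) + q ^ (M - 1) := by
      rw [pow_add, ← Nat.succ_mul]; exact Nat.mul_le_mul hau hEp
    have h4 : q ^ (k' + (M - 1)) ≤ q ^ (d - 2) := Nat.pow_le_pow_right (by omega) (by omega)
    have h5 : q ^ (M - 1) ≤ q ^ (d - 3) := Nat.pow_le_pow_right (by omega) (by omega)
    have h6 := three_terms hq hd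
    rw [add_mul, one_mul, ← pow_succ', show d - 3 + 1 = d - 2 by omega] at h6
    omega
  obtain rfl : m' = 1 := by omega
  rw [one_mul] at hsum
  obtain rfl : k' = d - M := by omega
  have hd1 : q ^ (d - 1) = q ^ (M - 1) * q ^ (d - M) := by rw [← pow_add]; congr 1; omega
  have hqd : q ≤ q ^ (d - M) := Nat.le_self_pow (by omega) q
  rcases Nat.lt_or_ge M 3 with hM3 | hM3
  · obtain rfl : M = 2 := by omega
    have h2 := hE.two rfl
    refine le_trans (Nat.mul_le_mul_left _ h2) ?_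
    simp only [show (2 : ℕ) - 1 = 1 by omega, pow_one] at hd1
    by_cases he : Even (d - 2)
    · refine le_trans ?_ (hT.even (by rw [show d = d - 2 + 2 by omega]; exact Nat.even_add.2 (by simp [he])))
      rw [au_even q he, hd1]
      calc (q ^ (d - 2) - 1) * p ≤ q ^ (d - 2) * q := Nat.mul_le_mul (Nat.sub_le _ _) hpq
        _ ≤ q * q ^ (d - 2) + 1 := by rw [mul_comm]; omega
    · have hod : Odd d := by
        rw [show d = d - 2 + 2 by omega]; exact (Nat.not_even_iff_odd.1 he).add_even even_two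
      rw [au_odd q he]
      rcases hqp with rfl | hpp
      · rcases hT.odd hod with h | h
        · exact h
        · nlinarith
      · refine le_trans ?_ hT.base
        rw [hd1]
        have h7 : 2 * p ≤ q := le_trans (Nat.mul_le_mul_right _ hp) hpp
        have h8 : (q ^ (d - 2) + 1) * p * 2 ≤ (q * q ^ (d - 2) - 1) * 2 := by
          have : q ^ (d - 2) * (2 * p) ≤ q ^ (d - 2) * q := Nat.mul_le_mul_left _ h7
          have : q ≤ q ^ (d - 2) := hqd
          have : 4 ≤ q := le_trans (Nat.mul_le_mul hp hp) hpp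
          have : 4 * q ^ (d - 2) ≤ q * q ^ (d - 2) := Nat.mul_le_mul_right _ this
          rw [Nat.sub_mul, add_mul, add_mul, one_mul, one_mul]
          rw [mul_assoc, mul_comm p 2]
          have e : q * q ^ (d - 2) * 2 = 2 * (q ^ (d - 2) * q) := by ring
          have e' : q ^ (d - 2) * q = q * q ^ (d - 2) := mul_comm _ _
          omega
        exact Nat.le_of_mul_le_mul_right h8 (by norm_num)
  · rcases Nat.lt_or_ge q 3 with hq3 | hq3
    · obtain rfl : q = 2 := by omega
      obtain rfl : p = 2 := hq2 rfl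
      have h4 := hE.four rfl
      have hd1' : 2 ^ (d - 1) = 2 ^ (M - 1) * 2 ^ (d - M) := hd1
      by_cases hM5 : M ≤ 4
      · by_cases hev : Even d
        · refine le_trans (Nat.mul_le_mul hau (h4 hM5)) (le_trans ?_ (hT.evenTwo hev rfl))
          have : 2 ^ (d - M) ≤ 2 ^ (d - 3) := Nat.pow_le_pow_right (by norm_num) (by omega)
          omega
        · refine le_trans (Nat.mul_le_mul_left _ (h4 hM5)) (le_trans ?_ (hT.oddTwo (Nat.not_even_iff_odd.1 hev) rfl))
          rcases Nat.lt_or_ge M 4 with h | h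
          · obtain rfl : M = 3 := by omega
            have he : Even (d - 3) := by
              obtain ⟨j, hj⟩ := Nat.not_even_iff_odd.1 hev
              exact ⟨j - 1, by omega⟩
            rw [au_even 2 he, hd1']
            simp only [show (3 : ℕ) - 1 = 2 by omega]
            omega
          · obtain rfl : M = 4 := by omega
            rw [hd1']
            simp only [show (4 : ℕ) - 1 = 3 by omega]
            omega
      · refine le_trans ?_ hT.base
        obtain ⟨j, rfl⟩ : ∃ j, M = j + 5 := ⟨M - 5, by omega⟩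
        rw [show j + 5 - 1 = j + 4 by omega] at h2E hd1'
        have h6 := lin_lt le_rfl j (q := 2)
        have h7 : 3 * (j + 4) + 1 ≤ 2 ^ (j + 4) := by rw [pow_add]; omega
        have h8 : au 2 (d - (j + 5)) * E ≤ (2 ^ (d - (j + 5)) + 1) * (2 * (j + 4)) := Nat.mul_le_mul hau h2E
        rw [hd1']
        have h9 : (2 ^ (d - (j + 5)) + 1) * (2 * (j + 4)) + 1 ≤ 2 ^ (j + 4) * 2 ^ (d - (j + 5)) := by
          nlinarith
        omega
    · refine le_trans ?_ hT.base
      obtain ⟨j, rfl⟩ : ∃ j, M = j + 3 := ⟨M - 3, by omega⟩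
      rw [show j + 3 - 1 = j + 2 by omega] at h2E hd1
      have h6 : 2 * (j + 2) + 1 ≤ 3 * q ^ (j + 1) := by
        have := lin_lt hq (j + 1)
        omega
      have h7 : 4 * (p * (j + 2)) + 1 ≤ 3 * q ^ (j + 2) := by
        rcases Nat.eq_zero_or_pos j with rfl | hj
        · have := Nat.mul_le_mul_right 2 hpq
          have : 3 * q ≤ q ^ 2 := by rw [sq]; exact Nat.mul_le_mul_right _ hq3
          simp only [zero_add]
          omega
        · have h := lin_lt hq (j + 1)
          have hp4 : p * (j + 2) ≤ q * (j + 2) := Nat.mul_le_mul_right _ hpq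
          have : q ^ (j + 2) = q * q ^ (j + 1) := pow_succ' q (j + 1)
          have h9 : 4 * (j + 2) < 3 * q ^ (j + 1) := by
            have h10 : 3 * 3 ^ j ≤ q ^ (j + 1) := by
              rw [pow_succ']; exact Nat.mul_le_mul hq3 (Nat.pow_le_pow_left hq3 _)
            have h11 : j + 1 ≤ 3 ^ j := lin_lt (by norm_num) j
            omega
          nlinarith
      have h8 : 3 * (au q (d - (j + 3)) * E) ≤ 4 * q ^ (d - (j + 3)) * (p * (j + 2)) := by
        rw [← mul_assoc]
        exact Nat.mul_le_mul (by omega) h2E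
      rw [hd1]
      have h9 : 4 * q ^ (d - (j + 3)) * (p * (j + 2)) + q ^ (d - (j + 3)) ≤ 3 * (q ^ (j + 2) * q ^ (d - (j + 3))) := by
        nlinarith
      omega

end Cfsg.Agent.Small.UMaxOrd
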