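import Mathlib
import Cfsg.Agent.Lib.Small.Hermitian
import Cfsg.Agent.Lib.Small.ClassicalHom
import Cfsg.Agent.Lib.Classical.UnitaryOrders

/-!
Elements of large order in the projective general unitary groups: tori of order `q^d + 1`
(`d` odd) and `q^{2d} - 1`, and their products with unipotent elements.
-/

set_option autoImplicit false
set_option linter.unusedSectionVars false
set_option linter.style.haveILetI false

namespace Cfsg.Agent.Small.UMaxOrd

open Matrix Cfsg.Agent.Small.Hermitian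

variable {F : Type*} [Field F] [Fintype F] [StarRing F] {q : ℕ}

/-- The cyclic torus of order `q^d + 1`. -/
theorem exists_torus_odd_full (hstar : ∀ x : F, star x = x ^ q) (hF : Fintype.card F = q ^ 2)
    {d : ℕ} (hd : Odd d) :
    ∃ v : GL (Fin d) F, (v : Matrix (Fin d) (Fin d) F)ᴴ * (v : Matrix (Fin d) (Fin d) F) = 1 ∧
      orderOf v = q ^ d + 1 := by
  classical
  obtain ⟨p, hp⟩ := CharP.exists F
  haveI := hp
  haveI : Fact p.Prime := ⟨(CharP.char_is_prime F p)⟩
  obtain ⟨e, he⟩ := hd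
  haveI : NeZero d := ⟨by omega⟩
  have hq := q_two_le hF
  let K := FiniteField.Extension F p d
  have hK : Module.finrank F K = d := FiniteField.finrank_extension F p d
  haveI : Module.Finite F K := Module.finite_of_finrank_eq_succ (n := d - 1) (by omega)
  haveI : Finite K := Module.finite_of_finite F
  haveI := Fintype.ofFinite K
  haveI : CharP K p := charP_of_injective_algebraMap (algebraMap F K).injective p
  let b : Module.Basis (Fin d) F K := Module.finBasisOfFinrankEq F K hK
  have hcard : Fintype.card K = q ^ (2 * d) := by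
    rw [← Nat.card_eq_fintype_card, Module.natCard_eq_pow_finrank (K := F) (V := K), hK,
      Nat.card_eq_fintype_card, hF, ← pow_mul]
  obtain ⟨f, hfq⟩ : ∃ f, q = p ^ f := by
    obtain ⟨k, -, hk⟩ := FiniteField.card F p
    rw [hF] at hk
    obtain ⟨f, -, hf⟩ := (Nat.dvd_prime_pow (Fact.out : p.Prime)).mp
      (hk ▸ dvd_pow_self q two_ne_zero : q ∣ p ^ (k : ℕ))
    exact ⟨f, hf⟩
  set τ : K →+* K := iterateFrobenius K p (f * d) with hτdef
  have hτ : ∀ x, τ x = x ^ q ^ d := fun x => by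
    rw [hτdef, iterateFrobenius_def, pow_mul, ← hfq]
  have hτc : ∀ c : F, τ (algebraMap F K c) = algebraMap F K (star c) := by
    intro c
    rw [hτ, ← map_pow]
    congr 1
    rw [he, pow_succ, pow_mul q 2 e, ← hF, pow_mul, FiniteField.pow_card_pow, hstar]
  have hττ : ∀ x, τ (τ x) = x := fun x => by
    rw [hτ, hτ, ← pow_mul, ← pow_add, ← two_mul, ← hcard, FiniteField.pow_card]
  set H : Matrix (Fin d) (Fin d) F :=
    Matrix.of fun i j => Algebra.trace F K (τ (b i) * b j) with hH
  have htr : ∀ x : K, Algebra.trace F K (τ x) = star (Algebra.trace F K x) := by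
    intro x
    let e₁ : F ≃+* F := starRingAut
    let e₂ : K ≃+* K := RingEquiv.ofRingHom τ τ (RingHom.ext hττ) (RingHom.ext hττ)
    have := Algebra.trace_eq_of_equiv_equiv e₁ e₂ (RingHom.ext fun c => (hτc c).symm) (τ x)
    rw [this]
    apply star_injective
    rw [star_star]
    simp [e₁, e₂, hττ]
    exact starRingAut.apply_symm_apply _
  have hHh : Hᴴ = H := by
    ext i j
    simp only [conjTranspose_apply, hH, Matrix.of_apply, ← htr, map_mul, hττ, mul_comm]
  have hHu : IsUnit H := by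
    refine Matrix.mulVec_injective_iff_isUnit.mp ?_
    rw [← Matrix.coe_mulVecLin, ← LinearMap.ker_eq_bot, Matrix.ker_mulVecLin_eq_bot_iff]
    intro v hv
    set y : K := ∑ j, v j • b j with hy
    have h1 : ∀ i, Algebra.trace F K (τ (b i) * y) = 0 := by
      intro i
      have := congrFun hv i
      simp only [Matrix.mulVec, dotProduct, hH, Matrix.of_apply, Pi.zero_apply] at this
      rw [hy, Finset.mul_sum, map_sum, ← this]
      refine Finset.sum_congr rfl fun j _ => ?_
      rw [mul_smul_comm, map_smul, smul_eq_mul, mul_comm]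
    have h2 : ∀ x : K, Algebra.trace F K (x * y) = 0 := by
      intro x
      rw [← hττ x, ← b.sum_repr (τ x), map_sum, Finset.sum_mul, map_sum]
      refine Finset.sum_eq_zero fun i _ => ?_
      rw [Algebra.smul_def, map_mul τ, hτc, mul_assoc, ← Algebra.smul_def, map_smul, h1, smul_zero]
    have hy0 : y = 0 := by
      refine (traceForm_nondegenerate F K).2 y fun x => ?_
      rw [Algebra.traceForm_apply]
      exact h2 x
    funext j
    have := congrArg (fun z => b.repr z j) hy0
    simpa [hy, Finsupp.single_apply] using this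
  obtain ⟨z, hz⟩ := IsCyclic.exists_ofOrder_eq_natCard (α := Kˣ)
  rw [Nat.card_units, Nat.card_eq_fintype_card, hcard] at hz
  set Q := q ^ d with hQdef
  have hQ2 : 2 ≤ Q := by rw [hQdef]; exact le_trans hq (Nat.le_self_pow (by omega) q)
  have hzo : orderOf z = (Q + 1) * (Q - 1) := by
    rw [hz, ← sq_sub_one Q, hQdef, ← pow_mul, mul_comm 2 d]
  set a : Kˣ := z ^ (Q - 1) with ha
  have hao : orderOf a = Q + 1 := by
    rw [ha, orderOf_pow' _ (by omega), hzo, Nat.gcd_mul_left_left, Nat.mul_div_cancel _ (by omega)]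
  let u : GL (Fin d) F := Units.map (Algebra.leftMulMatrix b : K →ₐ[F] _).toMonoidHom a
  have huv : (u : Matrix (Fin d) (Fin d) F) = Algebra.leftMulMatrix b (a : K) := rfl
  have haτ : τ (a : K) * (a : K) = 1 := by
    rw [hτ, ← pow_succ, ha, ← Units.val_pow_eq_pow_val, ← pow_mul, mul_comm, ← hzo,
      pow_orderOf_eq_one, Units.val_one]
  have hiso : (u : Matrix (Fin d) (Fin d) F)ᴴ * H * (u : Matrix (Fin d) (Fin d) F) = H := by
    rw [huv, hH, leftMul_conj b τ hτc]
    ext i j
    simp only [Matrix.of_apply, map_mul]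
    congr 1
    linear_combination (τ (b i) * b j) * haτ
  obtain ⟨v, hv, hvord, -, -⟩ := exists_transport hstar hF H hHh hHu u hiso
  refine ⟨v, hv, ?_⟩
  rw [hvord, orderOf_injective _ (Units.map_injective (Algebra.leftMulMatrix_injective b)), hao]

/-- The cyclic torus of order `q^{2d} - 1`. -/
theorem exists_torus_even_full (hstar : ∀ x : F, star x = x ^ q) (hF : Fintype.card F = q ^ 2)
    (d : ℕ) (hd : 1 ≤ d) :
    ∃ v : GL (Fin (d + d)) F,
      (v : Matrix (Fin (d + d)) (Fin (d + d)) F)ᴴ * (v : Matrix (Fin (d + d)) (Fin (d + d)) F) = 1 ∧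
      orderOf v = q ^ (2 * d) - 1 := by
  classical
  obtain ⟨s, hs⟩ := exists_singer (F := F) d hd
  rw [Nat.card_eq_fintype_card, hF, ← pow_mul] at hs
  let ι : Fin d ⊕ Fin d ≃ Fin (d + d) := finSumFinEquiv
  let lev : GL (Fin d) F →* GL (Fin (d + d)) F :=
    MonoidHom.toHomUnits
      { toFun := fun A => Matrix.reindex ι ι (fromBlocks (A : Matrix (Fin d) (Fin d) F) 0 0
          ((A⁻¹ : GL (Fin d) F) : Matrix (Fin d) (Fin d) F)ᴴ)
        map_one' := by simp
        map_mul' := fun A B => by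
          simp [fromBlocks_multiply, Matrix.reindex_apply, Matrix.submatrix_mul_equiv,
            _root_.mul_inv_rev, conjTranspose_mul] }
  have hlev : ∀ A, (lev A : Matrix (Fin (d + d)) (Fin (d + d)) F) =
      Matrix.reindex ι ι (fromBlocks (A : Matrix (Fin d) (Fin d) F) 0 0
          ((A⁻¹ : GL (Fin d) F) : Matrix (Fin d) (Fin d) F)ᴴ) := fun A => rfl
  have hinj : Function.Injective lev := by
    intro A B h
    have := congrArg Units.val h
    rw [hlev, hlev] at this
    exact Units.ext (fromBlocks_inj.mp ((Matrix.reindex ι ι).injective this)).1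
  set H : Matrix (Fin (d + d)) (Fin (d + d)) F :=
    Matrix.reindex ι ι (fromBlocks 0 1 1 0) with hH
  have hHH : H * H = 1 := by
    simp [hH, Matrix.reindex_apply, Matrix.submatrix_mul_equiv, fromBlocks_multiply,
      fromBlocks_one]
  have hHh : Hᴴ = H := by
    simp [hH, Matrix.reindex_apply, conjTranspose_submatrix, fromBlocks_conjTranspose]
  have hiso : (lev s : Matrix (Fin (d + d)) (Fin (d + d)) F)ᴴ * H * (lev s : Matrix _ _ F) = H := by
    rw [hlev, hH]
    simp [Matrix.reindex_apply, conjTranspose_submatrix, fromBlocks_conjTranspose,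
      Matrix.submatrix_mul_equiv, fromBlocks_multiply, ← conjTranspose_mul]
  obtain ⟨v, hv, hvord, -, -⟩ := exists_transport hstar hF H hHh ⟨⟨H, H, hHH, hHH⟩, rfl⟩ (lev s) hiso
  exact ⟨v, hv, by rw [hvord, orderOf_injective _ hinj, hs]⟩

/-- Central elements of the unitary group are scalar matrices. -/
theorem center_scalar {d : ℕ} (hd : 1 ≤ d) (hstar : ∀ x : F, star x = x ^ q) (hF : Fintype.card F = q ^ 2)
    {g : ↥(Cfsg.GU d F q)} (hg : g ∈ Subgroup.center ↥(Cfsg.GU d F q)) :
    ∃ c : F, (g : GL (Fin d) F).1 = c • 1 := by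
  classical
  obtain ⟨-, -, σ, -, -, -, -, hσ⟩ := Cfsg.Agent.Classical.exists_usigma hF
  have hσq : ∀ x, (σ : F →+* F) x = x ^ q := fun x => hσ.apply_eq x
  set A := (g : GL (Fin d) F).1 with hA
  have hcomm : ∀ h : GL (Fin d) F, h ∈ Cfsg.GU d F q → h.1 * A = A * h.1 := fun h hh => by
    have := congrArg (fun x : ↥(Cfsg.GU d F q) => (x : GL (Fin d) F).1) (Subgroup.mem_center_iff.1 hg ⟨h, hh⟩)
    simpa using this
  obtain ⟨z, -, hzo⟩ := hσ.exists_gen
  have hq := q_two_le hF
  set ζ : F := ((z ^ (q - 1) : Fˣ) : F) with hζ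
  have hζn : ζ * σ ζ = 1 := by
    rw [hσ.apply_eq, ← pow_succ', hζ, ← Units.val_pow_eq_pow_val, ← pow_mul,
      show (q - 1) * (q + 1) = q ^ 2 - 1 by rw [mul_comm]; exact (sq_sub_one q).symm, ← hzo, pow_orderOf_eq_one, Units.val_one]
  have hζ1 : ζ ≠ 1 := by
    intro h
    have h1 : z ^ (q - 1) = 1 := Units.ext h
    have h2 := orderOf_dvd_of_pow_eq_one h1
    rw [hzo] at h2
    have := Nat.le_of_dvd (by omega) h2
    have : q * 2 ≤ q ^ 2 := by rw [sq]; exact Nat.mul_le_mul_left _ hq
    omega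
  have hoff : ∀ i j, i ≠ j → A i j = 0 := fun i j hij => by
    obtain ⟨h, hh, hhd⟩ := Cfsg.Agent.Classical.UCount.exists_diag hσ (n := d) (Function.update (fun _ => 1) i ζ) fun k => by
      by_cases hk : k = i
      · subst hk; simpa using hζn
      · simp [Function.update_of_ne hk]
    have h1 := congrFun (congrFun (hcomm h hh) i) j
    rw [hhd, Matrix.diagonal_mul, Matrix.mul_diagonal, Function.update_self, Function.update_of_ne (Ne.symm hij)] at h1
    have h2 : (ζ - 1) * A i j = 0 := by linear_combination h1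
    exact (mul_eq_zero.1 h2).resolve_left (sub_ne_zero.2 hζ1)
  refine ⟨A ⟨0, hd⟩ ⟨0, hd⟩, ?_⟩
  ext i j
  by_cases hij : i = j
  · subst hij
    have h1 := congrFun (congrFun (hcomm _ (permGL_mem_GU (σ : F →+* F) hσq (Equiv.swap i ⟨0, hd⟩))) i) ⟨0, hd⟩
    rw [coe_permGL, Equiv.swap_inv] at h1
    rw [Equiv.Perm.permMatrix, PEquiv.toMatrix_toPEquiv_mul, PEquiv.mul_toMatrix_toPEquiv, Matrix.submatrix_apply,
      Matrix.submatrix_apply, id, id, Equiv.swap_apply_left, Equiv.symm_swap, Equiv.swap_apply_right] at h1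
    simpa using h1.symm
  · simp [Matrix.one_apply_ne hij, hoff i j hij]

/-- A block product of a torus element and a unipotent element. -/
theorem exists_order {a b d n₁ n₂ p : ℕ} [Fact p.Prime] [CharP F p] (hab : a + b = d) (hb : 1 ≤ b)
    (hstar : ∀ x : F, star x = x ^ q) (hF : Fintype.card F = q ^ 2)
    (v : GL (Fin a) F) (hv : v.1ᴴ * v.1 = 1) (hvo : orderOf v = n₁)
    (w : GL (Fin b) F) (hw : w.1ᴴ * w.1 = 1) (hwo : orderOf w = n₂) (hn₂ : ∃ e, n₂ = p ^ e)
    (hco : n₁.Coprime n₂) :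
    ∃ g : ↥(Cfsg.GU d F q) ⧸ Subgroup.center ↥(Cfsg.GU d F q), orderOf g = n₁ * n₂ := by
  classical
  subst hab
  obtain ⟨-, -, σ, -, -, -, -, hσ⟩ := Cfsg.Agent.Classical.exists_usigma hF
  have hσq : ∀ x, (σ : F →+* F) x = x ^ q := fun x => hσ.apply_eq x
  let ι : Fin a ⊕ Fin b ≃ Fin (a + b) := finSumFinEquiv
  let blk : GL (Fin a) F × GL (Fin b) F →* GL (Fin (a + b)) F :=
    MonoidHom.toHomUnits
      { toFun := fun x => Matrix.reindex ι ι (fromBlocks x.1.1 0 0 x.2.1)
        map_one' := by simp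
        map_mul' := fun x y => by
          simp [fromBlocks_multiply, Matrix.reindex_apply, Matrix.submatrix_mul_equiv] }
  have hblk : ∀ x, (blk x).1 = Matrix.reindex ι ι (fromBlocks x.1.1 0 0 x.2.1) := fun x => rfl
  have hgram : (blk (v, w)).1ᴴ * (blk (v, w)).1 = 1 := by
    rw [hblk]
    simp [Matrix.reindex_apply, conjTranspose_submatrix, fromBlocks_conjTranspose,
      Matrix.submatrix_mul_equiv, fromBlocks_multiply, hv, hw, fromBlocks_one]
  have hmem : blk (v, w) ∈ Cfsg.GU (a + b) F q := by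
    refine mem_GU_of_unitary (σ : F →+* F) hσq _ ?_
    have h := congrArg Matrix.transpose hgram
    rw [transpose_mul, transpose_one] at h
    rw [← h]
    congr 1
    ext i j
    simp [hstar, hσ.apply_eq]
  refine ⟨QuotientGroup.mk ⟨blk (v, w), hmem⟩, Nat.dvd_antisymm ?_ ?_⟩
  · refine orderOf_dvd_of_pow_eq_one ?_
    rw [← QuotientGroup.mk_pow, QuotientGroup.eq_one_iff]
    have : (⟨blk (v, w), hmem⟩ : ↥(Cfsg.GU (a + b) F q)) ^ (n₁ * n₂) = 1 := by
      apply Subtype.ext
      rw [SubgroupClass.coe_pow, OneMemClass.coe_one]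
      show blk (v, w) ^ (n₁ * n₂) = 1
      rw [← map_pow, Prod.pow_mk, pow_mul, ← hvo, pow_orderOf_eq_one, one_pow, mul_comm, pow_mul, ← hwo,
        pow_orderOf_eq_one, one_pow, Prod.mk_one_one, map_one]
    rw [this]
    exact one_mem _
  · set g : ↥(Cfsg.GU (a + b) F q) := ⟨blk (v, w), hmem⟩ with hg
    set k := orderOf (QuotientGroup.mk g : ↥(Cfsg.GU (a + b) F q) ⧸ Subgroup.center ↥(Cfsg.GU (a + b) F q))
    have hk : g ^ k ∈ Subgroup.center ↥(Cfsg.GU (a + b) F q) := by
      rw [← QuotientGroup.eq_one_iff, QuotientGroup.mk_pow, pow_orderOf_eq_one]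
    obtain ⟨c, hc⟩ := center_scalar (by omega) hstar hF hk
    have hc' : fromBlocks (v ^ k).1 0 0 (w ^ k).1 = fromBlocks (c • 1) 0 0 (c • (1 : Matrix (Fin b) (Fin b) F)) := by
      apply (Matrix.reindex ι ι).injective
      have h1 : (((g ^ k : ↥(Cfsg.GU (a + b) F q)) : GL (Fin (a + b)) F)).1 = (blk (v ^ k, w ^ k)).1 := by
        rw [SubgroupClass.coe_pow, ← Prod.pow_mk, map_pow]
      rw [h1, hblk] at hc
      refine hc.trans ?_
      rw [← fromBlocks_smul' c, fromBlocks_one]
      simp [Matrix.reindex_apply, Matrix.submatrix_smul, Matrix.submatrix_one_equiv]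
    obtain ⟨h1, -, -, h2⟩ := fromBlocks_inj.1 hc'
    obtain ⟨e, he⟩ := hn₂
    haveI : Nonempty (Fin b) := ⟨⟨0, hb⟩⟩
    have hc1 : c = 1 := by
      have h3 : ((w ^ k) ^ p ^ e).1 = 1 := by
        rw [← pow_mul, mul_comm, pow_mul, ← he, ← hwo, pow_orderOf_eq_one, one_pow, Units.val_one]
      rw [Units.val_pow_eq_pow_val, h2, smul_pow, one_pow] at h3
      have h4 := congrFun (congrFun h3 ⟨0, hb⟩) ⟨0, hb⟩
      simp at h4
      exact (iterateFrobenius F p e).injective (by simpa [iterateFrobenius_def] using h4)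
    subst hc1
    rw [one_smul] at h1 h2
    refine hco.mul_dvd_of_dvd_of_dvd ?_ ?_
    · rw [← hvo]; exact orderOf_dvd_of_pow_eq_one (Units.ext h1)
    · rw [← hwo]; exact orderOf_dvd_of_pow_eq_one (Units.ext h2)
where
  fromBlocks_smul' {a b : ℕ} (c : F) :
      c • fromBlocks (1 : Matrix (Fin a) (Fin a) F) 0 0 (1 : Matrix (Fin b) (Fin b) F) =
        fromBlocks (c • 1) 0 0 (c • 1) := by
    rw [fromBlocks_smul, smul_zero, smul_zero]

end Cfsg.Agent.Small.UMaxOrd
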