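import Mathlib
import Cfsg.Agent.Lib.Small.UnitaryMaxOrder.Arith

/-!
The roots of the characteristic polynomial of a unitary matrix: they are permuted, with
multiplicities, by `x ↦ x^(-q)`, and a bound for the least power of the matrix which is scalar.
-/

set_option autoImplicit false
set_option linter.unusedSectionVars false

namespace Cfsg.Agent.Small.UMaxOrd

open Polynomial

variable {K : Type*} [Field K]

theorem roots_reverse (s : Multiset K) (h0 : ∀ a ∈ s, a ≠ 0) :
    (s.map fun a => X - C a).prod.reverse ≠ 0 ∧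
      (s.map fun a => X - C a).prod.reverse.roots = s.map fun a => a⁻¹ := by
  induction s using Multiset.induction with
  | empty =>
    rw [Multiset.map_zero, Multiset.prod_zero, ← C_1, reverse_C, Multiset.map_zero, roots_C]
    exact ⟨by simp, rfl⟩
  | cons a s ih =>
    obtain ⟨ih1, ih2⟩ := ih fun b hb => h0 b (Multiset.mem_cons_of_mem hb)
    have ha : a ≠ 0 := h0 a (Multiset.mem_cons_self _ _)
    have e : (X - C a : K[X]).reverse = C (-a) * (X - C a⁻¹) := by
      rw [sub_eq_add_neg, ← C_neg, reverse, natDegree_X_add_C, reflect_add, reflect_C, ← pow_one (X : K[X]),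
        reflect_monomial, mul_sub, ← C_mul, neg_mul, mul_inv_cancel₀ ha]
      simp [add_comm]
    have hne : C (-a) * (X - C a⁻¹) ≠ 0 :=
      mul_ne_zero (C_ne_zero.2 (neg_ne_zero.2 ha)) (X_sub_C_ne_zero _)
    rw [Multiset.map_cons, Multiset.prod_cons, reverse_mul_of_domain, e, roots_mul (mul_ne_zero hne ih1), ih2,
      roots_C_mul _ (neg_ne_zero.2 ha), roots_X_sub_C, Multiset.map_cons, Multiset.singleton_add]
    exact ⟨mul_ne_zero hne ih1, rfl⟩

variable [IsAlgClosed K] {n : ℕ}

theorem root_ne_zero (B : Matrix (Fin n) (Fin n) K) (hdet : IsUnit B.det) {a : K}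
    (ha : a ∈ B.charpoly.roots) : a ≠ 0 := by
  rintro rfl
  have h := (mem_roots'.1 ha).2
  rw [IsRoot, ← coeff_zero_eq_eval_zero] at h
  exact hdet.ne_zero (by rw [Matrix.det_eq_sign_charpoly_coeff, h, mul_zero])

theorem roots_inv (B : Matrix (Fin n) (Fin n) K) (hdet : IsUnit B.det) :
    B⁻¹.charpoly.roots = B.charpoly.roots.map fun a => a⁻¹ := by
  have h2 := (IsAlgClosed.splits B.charpoly).eq_prod_roots_of_monic B.charpoly_monic
  rw [Matrix.charpoly_inv B ((Matrix.isUnit_iff_isUnit_det B).2 hdet), ← Matrix.reverse_charpoly,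
    show ((-1 : K[X])) ^ Fintype.card (Fin n) = C ((-1) ^ Fintype.card (Fin n)) by rw [map_pow, map_neg, map_one],
    ← C_mul]
  refine (roots_C_mul _ (mul_ne_zero (pow_ne_zero _ (neg_ne_zero.2 one_ne_zero)) ?_)).trans ?_
  · rw [Ring.inverse_eq_inv']; exact inv_ne_zero hdet.ne_zero
  · conv_lhs => rw [h2]
    exact (roots_reverse _ fun a ha => root_ne_zero B hdet ha).2

variable (q : ℕ)

/-- `x ↦ x^(-q)` -/
def phi : K → K := fun x => (x ^ q)⁻¹

theorem roots_phi (τ : K →+* K) (hτ : ∀ x, τ x = x ^ q) (B : Matrix (Fin n) (Fin n) K)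
    (hB : B.transpose * B.map τ = 1) : B.charpoly.roots.map (phi q) = B.charpoly.roots := by
  have hdet : IsUnit B.det := by
    refine isUnit_of_dvd_one ⟨(B.map τ).det, ?_⟩
    rw [← Matrix.det_transpose B, ← Matrix.det_mul, hB, Matrix.det_one]
  have h1 : B.charpoly.map τ = B⁻¹.charpoly := by
    rw [← Matrix.charpoly_map, ← Matrix.inv_eq_right_inv hB, ← Matrix.transpose_nonsing_inv, Matrix.charpoly_transpose]
  have h2 := congrArg Polynomial.roots h1
  rw [roots_inv B hdet, (IsAlgClosed.splits B.charpoly).roots_map τ] at h2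
  have h3 := congrArg (Multiset.map fun a : K => a⁻¹) h2
  rw [Multiset.map_map, Multiset.map_map] at h3
  rw [show phi (K := K) q = fun x => (x ^ q)⁻¹ from rfl]
  simpa [Function.comp_def, hτ] using h3

/-- iterates of `phi` -/
theorem phi_iterate (k : ℕ) (x : K) :
    (phi q)^[k] x = if Even k then x ^ q ^ k else (x ^ q ^ k)⁻¹ := by
  induction k with
  | zero => simp
  | succ k ih =>
    rw [Function.iterate_succ_apply', ih]
    by_cases h : Even k
    · rw [if_pos h, if_neg (Nat.even_add_one.not.2 (not_not.2 h)), phi, ← pow_mul, ← pow_succ]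
    · rw [if_neg h, if_pos (Nat.even_add_one.2 h), phi, inv_pow, inv_inv, ← pow_mul, ← pow_succ]

theorem pow_au {k : ℕ} {x : K} (hx : x ≠ 0) (h : (phi q)^[k] x = x) : x ^ au q k = 1 := by
  rw [phi_iterate] at h
  have hpow : ∀ j : ℕ, x ^ j ≠ 0 := fun j => pow_ne_zero _ hx
  by_cases he : Even k
  · rw [if_pos he] at h
    rw [au_even q he]
    rcases Nat.eq_zero_or_pos (q ^ k) with h0 | h0
    · rw [h0, Nat.zero_sub, pow_zero]
    · refine mul_left_cancel₀ hx ?_
      rw [← pow_succ', Nat.sub_add_cancel h0, h, mul_one]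
  · rw [if_neg he] at h
    rw [au_odd q he, pow_succ]
    nth_rewrite 2 [← h]
    exact mul_inv_cancel₀ (hpow _)

theorem phi_pow (x : K) (j : ℕ) : phi q (x ^ j) = phi q x ^ j := by
  simp only [phi, inv_pow, ← pow_mul, mul_comm]

theorem phi_fix {c : K} (h : c ^ (q + 1) = 1) : phi q c = c :=
  inv_eq_of_mul_eq_one_right (by rw [← pow_succ]; exact h)

/-- multiplicities -/
theorem count_phi [DecidableEq K] (s : Multiset K) (hs : s.map (phi q) = s) (h0 : ∀ a ∈ s, a ≠ 0)
    (hinj : ∀ a ∈ s, ∀ b ∈ s, phi q a = phi q b → a = b) {x : K} (hx : x ∈ s) :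
    s.count (phi q x) = s.count x := by
  conv_lhs => rw [← hs]
  exact Multiset.count_map_eq_count (phi q) s (fun a ha b hb h => hinj a ha b hb h) x hx

/-- the orbit of a point under `phi` in an invariant finite set -/
theorem exists_orbit [DecidableEq K] (s : Finset K) (hmap : ∀ a ∈ s, phi q a ∈ s)
    (hinj : Set.InjOn (phi q) (s : Set K)) {x : K} (hx : x ∈ s) :
    ∃ k, 1 ≤ k ∧ ∃ O : Finset K, O ⊆ s ∧ x ∈ O ∧ O.card = k ∧
      (∀ a ∈ O, (phi q)^[k] a = a ∧ ∃ i, a = (phi q)^[i] x) ∧ (∀ a ∈ O, phi q a ∈ O) ∧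
      ∀ a ∈ s \ O, phi q a ∈ s \ O := by
  classical
  let f : {a // a ∈ s} → {a // a ∈ s} := fun a => ⟨phi q a.1, hmap a.1 a.2⟩
  have hf : Function.Injective f := fun a b h => Subtype.ext (hinj a.2 b.2 (congrArg Subtype.val h))
  let e := Equiv.ofBijective f ⟨hf, Finite.injective_iff_surjective.1 hf⟩
  let x' : {a // a ∈ s} := ⟨x, hx⟩
  have hper : x' ∈ Function.periodicPts f := hf.mem_periodicPts x'
  set k := Function.minimalPeriod f x' with hk
  have hk1 : 1 ≤ k := Function.minimalPeriod_pos_of_mem_periodicPts hper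
  have hval : ∀ i (a : {a // a ∈ s}), ((f^[i]) a).1 = (phi q)^[i] a.1 := fun i => by
    induction i with
    | zero => intro a; rfl
    | succ i ih => intro a; rw [Function.iterate_succ_apply', Function.iterate_succ_apply', ← ih]
  let O : Finset K := (Finset.range k).image fun i => ((f^[i]) x').1
  have hmemO : ∀ i, ((f^[i]) x').1 ∈ O := fun i => by
    rw [← Function.iterate_mod_minimalPeriod_eq (f := f)]
    exact Finset.mem_image_of_mem _ (Finset.mem_range.2 (Nat.mod_lt _ hk1))
  refine ⟨k, hk1, O, ?_, hmemO 0, ?_, ?_, ?_, ?_⟩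
  · intro a ha
    obtain ⟨i, -, rfl⟩ := Finset.mem_image.1 ha
    exact Subtype.coe_prop _
  · rw [Finset.card_image_of_injOn, Finset.card_range]
    intro i hi j hj h
    exact (Function.iterate_eq_iterate_iff_of_lt_minimalPeriod (Finset.mem_range.1 hi) (Finset.mem_range.1 hj)).1
      (Subtype.ext h)
  · intro a ha
    obtain ⟨i, -, rfl⟩ := Finset.mem_image.1 ha
    refine ⟨?_, i, hval i x'⟩
    rw [← hval, ← Function.iterate_add_apply, Nat.add_comm, Function.iterate_add_apply,
      Function.iterate_minimalPeriod]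
  · intro a ha
    obtain ⟨i, -, rfl⟩ := Finset.mem_image.1 ha
    simpa [Function.iterate_succ_apply', f] using hmemO (i + 1)
  · intro a ha
    rw [Finset.mem_sdiff] at ha ⊢
    refine ⟨hmap a ha.1, fun h => ha.2 ?_⟩
    obtain ⟨i, -, hi⟩ := Finset.mem_image.1 h
    have h1 : f ((f^[i + (k - 1)]) x') = (f^[i]) x' := by
      rw [← Function.iterate_succ_apply' f, show (i + (k - 1)).succ = i + k by omega, Function.iterate_add_apply,
        Function.iterate_minimalPeriod]
    have h2 := hinj (Subtype.coe_prop ((f^[i + (k - 1)]) x')) ha.1 ((congrArg Subtype.val h1).trans hi)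
    rw [← h2]
    exact hmemO _

/-- an exponent for an invariant set -/
theorem exists_exponent (hq : 2 ≤ q) : ∀ (N : ℕ) (s : Finset K), s.card = N → 1 ≤ N →
    (∀ a ∈ s, phi q a ∈ s) → Set.InjOn (phi q) (s : Set K) → (∀ a ∈ s, a ≠ 0) →
    ∃ P, 0 < P ∧ P ≤ q ^ (N - 1) ∧ ∀ a ∈ s, a ^ ((q + 1) * P) = 1 := by
  classical
  intro N
  induction N using Nat.strong_induction_on with
  | _ N ih =>
    intro s hsN hN hmap hinj h0
    obtain ⟨x, hx⟩ := Finset.card_pos.1 (hsN ▸ hN : 0 < s.card)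
    obtain ⟨k, hk, O, hOs, -, hOc, hOk, -, hrest⟩ := exists_orbit q s hmap hinj hx
    have hO1 : ∀ a ∈ O, a ^ ((q + 1) * bu q k) = 1 := fun a ha => by
      rw [mul_bu]; exact pow_au q (h0 a (hOs ha)) (hOk a ha).1
    by_cases hr : (s \ O).Nonempty
    · have hcard := Finset.card_sdiff_add_card_eq_card hOs
      have hpos : 1 ≤ (s \ O).card := Finset.card_pos.2 hr
      obtain ⟨P, hP0, hP, hPp⟩ := ih (s \ O).card (by omega) (s \ O) rfl hpos hrest
        (hinj.mono (Finset.coe_subset.2 Finset.sdiff_subset)) fun a ha => h0 a (Finset.mem_sdiff.1 ha).1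
      refine ⟨bu q k * P, Nat.mul_pos (bu_pos hq hk) hP0, ?_, fun a ha => ?_⟩
      · refine (Nat.mul_le_mul (bu_le hq hk) hP).trans ?_
        rw [← pow_add]
        exact Nat.pow_le_pow_right (by omega) (by omega)
      · by_cases h : a ∈ O
        · rw [← mul_assoc, pow_mul, hO1 a h, one_pow]
        · rw [mul_left_comm, mul_comm (bu q k), pow_mul, hPp a (Finset.mem_sdiff.2 ⟨ha, h⟩), one_pow]
    · have hOe : O = s := Finset.Subset.antisymm hOs (Finset.sdiff_eq_empty_iff_subset.1 (Finset.not_nonempty_iff_eq_empty.1 hr))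
      subst hOe
      exact ⟨bu q k, bu_pos hq hk, by rw [← hsN, hOc]; exact bu_le hq hk, hO1⟩

/-- A small power of every root is a common scalar of norm one, and that together with the largest
multiplicity is within the bound. -/
theorem exists_scalar_exponent [DecidableEq K] {p d T : ℕ} (hp : 2 ≤ p) (hpq : p ≤ q) (hqp : p = q ∨ p * p ≤ q)
    (hq2 : q = 2 → p = 2) (hd : 3 ≤ d) (h32 : ¬ (d = 3 ∧ q = 2)) (hT : Target p q d T)
    (s : Multiset K) (hs : s.map (phi q) = s) (hcard : Multiset.card s = d) (h0 : ∀ a ∈ s, a ≠ 0)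
    (hinj : ∀ a ∈ s, ∀ b ∈ s, phi q a = phi q b → a = b) :
    ∃ (N E : ℕ) (c : K), 0 < N ∧ c ^ (q + 1) = 1 ∧ (∀ a ∈ s, a ^ N = c) ∧
      (∃ e, E = p ^ e) ∧ (∀ a, s.count a ≤ E) ∧ N * E ≤ T := by
  have hq : 2 ≤ q := hp.trans hpq
  have hq4 : p = 2 → p < q → 4 ≤ q := fun h2 hlt => by
    rcases hqp with h | h
    · omega
    · subst h2; omega
  have hne : s.toFinset.Nonempty := by
    rw [Finset.nonempty_iff_ne_empty, Ne, Multiset.toFinset_eq_empty]
    intro h; rw [h, Multiset.card_zero] at hcard; omega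
  obtain ⟨x, hx, hmax⟩ := Finset.exists_max_image s.toFinset (fun a => s.count a) hne
  set M := s.count x with hM
  have hM1 : 1 ≤ M := Multiset.one_le_count_iff_mem.2 (Multiset.mem_toFinset.1 hx)
  have hle : ∀ a, s.count a ≤ M := fun a => by
    by_cases h : a ∈ s
    · exact hmax a (Multiset.mem_toFinset.2 h)
    · rw [Multiset.count_eq_zero.2 h]; exact Nat.zero_le _
  set E := p ^ Nat.clog p M with hE
  have hEM : M ≤ E := Nat.le_pow_clog (by omega) M
  have hPU : IsPUp p q M E := isPUp_clog p q M hp hq2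
  have hmap : ∀ a ∈ s.toFinset, phi q a ∈ s.toFinset := fun a ha => by
    rw [Multiset.mem_toFinset] at ha ⊢
    rw [← hs]; exact Multiset.mem_map_of_mem _ ha
  have hinjS : Set.InjOn (phi q) (s.toFinset : Set K) := fun a ha b hb h =>
    hinj a (Multiset.mem_toFinset.1 ha) b (Multiset.mem_toFinset.1 hb) h
  have h0S : ∀ a ∈ s.toFinset, a ≠ 0 := fun a ha => h0 a (Multiset.mem_toFinset.1 ha)
  have hcount : ∀ i : ℕ, ∀ a ∈ s, (phi q)^[i] a ∈ s ∧ s.count ((phi q)^[i] a) = s.count a := fun i => by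
    induction i with
    | zero => exact fun a ha => ⟨ha, rfl⟩
    | succ i ih =>
      intro a ha
      obtain ⟨h1, h2⟩ := ih a ha
      rw [Function.iterate_succ_apply']
      exact ⟨hs ▸ Multiset.mem_map_of_mem _ h1, (count_phi q s hs h0 hinj h1).trans h2⟩
  have hsum : ∑ a ∈ s.toFinset, s.count a = d := by rw [Multiset.toFinset_sum_count_eq, hcard]
  obtain ⟨k, hk, O, hOs, hxO, hOc, hOk, -, hrest⟩ := exists_orbit q s.toFinset hmap hinjS hx
  have hsumO : ∑ a ∈ O, s.count a = M * k := by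
    rw [Finset.sum_const_nat fun a ha => ?_, hOc, mul_comm]
    obtain ⟨i, rfl⟩ := (hOk a ha).2
    exact (hcount i x (Multiset.mem_toFinset.1 hx)).2
  have hsum1 : ∑ a ∈ s.toFinset \ O, s.count a + M * k = d := by
    rw [← hsumO, Finset.sum_sdiff hOs, hsum]
  by_cases hr : (s.toFinset \ O).Nonempty
  swap
  · -- a single orbit
    have hOe : O = s.toFinset :=
      Finset.Subset.antisymm hOs (Finset.sdiff_eq_empty_iff_subset.1 (Finset.not_nonempty_iff_eq_empty.1 hr))
    rw [Finset.not_nonempty_iff_eq_empty.1 hr, Finset.sum_empty, zero_add] at hsum1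
    refine ⟨bu q k, E, x ^ bu q k, bu_pos hq hk, ?_, fun a ha => ?_, ⟨_, rfl⟩, fun a => (hle a).trans hEM,
      (single hp hpq hq2 hd h32 hq4 hk hsum1 hPU).trans hT.base⟩
    · rw [← pow_mul, mul_comm, mul_bu]; exact pow_au q (h0S x hx) (hOk x hxO).1
    · obtain ⟨i, rfl⟩ := (hOk a (hOe ▸ Multiset.mem_toFinset.2 ha)).2
      have hc : (x ^ bu q k) ^ (q + 1) = 1 := by
        rw [← pow_mul, mul_comm, mul_bu]; exact pow_au q (h0S x hx) (hOk x hxO).1
      induction i with
      | zero => rfl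
      | succ i ih =>
        rw [Function.iterate_succ_apply', ← phi_pow, ih ((hcount i x (Multiset.mem_toFinset.1 hx)).1), phi_fix q hc]
  obtain ⟨y, hy⟩ := hr
  have hinj1 : Set.InjOn (phi q) ((s.toFinset \ O : Finset K) : Set K) :=
    hinjS.mono (Finset.coe_subset.2 Finset.sdiff_subset)
  obtain ⟨k', hk', O', hOs', hyO', hOc', hOk', -, hrest'⟩ := exists_orbit q (s.toFinset \ O) hrest hinj1 hy
  set m' := s.count y with hm'
  have hys : y ∈ s := Multiset.mem_toFinset.1 (Finset.mem_sdiff.1 hy).1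
  have hm1 : 1 ≤ m' := Multiset.one_le_count_iff_mem.2 hys
  have hsumO' : ∑ a ∈ O', s.count a = m' * k' := by
    rw [Finset.sum_const_nat fun a ha => ?_, hOc', mul_comm]
    obtain ⟨i, rfl⟩ := (hOk' a ha).2
    exact (hcount i y hys).2
  have hsum2 : ∑ a ∈ (s.toFinset \ O) \ O', s.count a + m' * k' + M * k = d := by
    rw [← hsum1, ← hsumO', Finset.sum_sdiff hOs']
  have e1 : ∀ a ∈ O, a ^ ((q + 1) * bu q k) = 1 := fun a ha => by
    rw [mul_bu]; exact pow_au q (h0S a (hOs ha)) (hOk a ha).1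
  have e2 : ∀ a ∈ O', a ^ ((q + 1) * bu q k') = 1 := fun a ha => by
    rw [mul_bu]; exact pow_au q (h0S a (Finset.mem_sdiff.1 (hOs' ha)).1) (hOk' a ha).1
  by_cases hr2 : ((s.toFinset \ O) \ O').Nonempty
  · obtain ⟨P, hP0, hP, hPp⟩ := exists_exponent q hq _ _ rfl (Finset.card_pos.2 hr2) hrest'
      (hinj1.mono (Finset.coe_subset.2 Finset.sdiff_subset))
      fun a ha => h0S a (Finset.mem_sdiff.1 (Finset.mem_sdiff.1 ha).1).1
    have hn : ((s.toFinset \ O) \ O').card ≤ ∑ a ∈ (s.toFinset \ O) \ O', s.count a := by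
      rw [Finset.card_eq_sum_ones]
      refine Finset.sum_le_sum fun a ha => ?_
      exact Multiset.one_le_count_iff_mem.2 (Multiset.mem_toFinset.1 (Finset.mem_sdiff.1 (Finset.mem_sdiff.1 ha).1).1)
    have hk'm : k' ≤ m' * k' := Nat.le_mul_of_pos_left _ hm1
    refine ⟨(q + 1) * (bu q k * (bu q k' * P)), E, 1, ?_, one_pow _, fun a ha => ?_, ⟨_, rfl⟩,
      fun a => (hle a).trans hEM,
      (many hpq hq hd hk hk' (Finset.card_pos.2 hr2) hP hM1 (by omega) hPU).trans hT.base⟩
    · exact Nat.mul_pos (by omega) (Nat.mul_pos (bu_pos hq hk) (Nat.mul_pos (bu_pos hq hk') hP0))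
    · by_cases h : a ∈ O
      · rw [← mul_assoc, pow_mul, e1 a h, one_pow]
      by_cases h' : a ∈ O'
      · rw [mul_left_comm, mul_comm (bu q k), ← mul_assoc (q + 1), mul_assoc ((q + 1) * bu q k'), pow_mul, e2 a h', one_pow]
      · rw [show (q + 1) * (bu q k * (bu q k' * P)) = (q + 1) * P * (bu q k * bu q k') by ring, pow_mul,
          hPp a (by simp [Multiset.mem_toFinset, ha, h, h']), one_pow]
  · rw [Finset.not_nonempty_iff_eq_empty.1 hr2, Finset.sum_empty, zero_add] at hsum2
    refine ⟨(q + 1) * (bu q k * bu q k'), E, 1, ?_, one_pow _, fun a ha => ?_, ⟨_, rfl⟩, fun a => (hle a).trans hEM, ?_⟩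
    · exact Nat.mul_pos (by omega) (Nat.mul_pos (bu_pos hq hk) (bu_pos hq hk'))
    · by_cases h : a ∈ O
      · rw [← mul_assoc, pow_mul, e1 a h, one_pow]
      · have h' : a ∈ O' := by
          by_contra h'
          exact hr2 ⟨a, by simp [Multiset.mem_toFinset, ha, h, h']⟩
        rw [show (q + 1) * (bu q k * bu q k') = (q + 1) * bu q k' * bu q k by ring, pow_mul, e2 a h', one_pow]
    · rcases Nat.lt_or_ge M 2 with h | h
      · have : M = 1 := by omega
        have hm'M : m' = 1 := le_antisymm (this ▸ hle y) hm1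
        rw [hPU.one (by omega), mul_one]
        exact two_simple hq hd hT hk hk' (by rw [hm'M, this, one_mul, one_mul] at hsum2; omega)
      · exact two_general hp hpq hqp hq2 hd hT hk hk' hm1 h (by omega) hPU

end Cfsg.Agent.Small.UMaxOrd
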