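import Mathlib
import Cfsg.Agent.Lib.Small.UnitaryMaxOrder.Roots
import Cfsg.Agent.Lib.Classical.UnitaryOrders

/-!
Every element of `GU_d(q)` has a power of small exponent which is scalar.
-/

set_option autoImplicit false
set_option linter.unusedSectionVars false
set_option linter.style.haveILetI false

namespace Cfsg.Agent.Small.UMaxOrd

open Polynomial

variable {F : Type*} [Field F] [Fintype F]

theorem exists_central_power {q p f d T : ℕ} [Fact p.Prime] [CharP F p] (hf : 1 ≤ f) (hqf : q = p ^ f)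
    (hF : Fintype.card F = q ^ 2) (hd : 3 ≤ d) (h32 : ¬ (d = 3 ∧ q = 2)) (hT : Target p q d T)
    (g : ↥(Cfsg.GU d F q)) :
    ∃ n, 0 < n ∧ n ≤ T ∧ g ^ n ∈ Subgroup.center ↥(Cfsg.GU d F q) := by
  classical
  obtain ⟨-, -, σ, -, -, -, -, hσ⟩ := Cfsg.Agent.Classical.exists_usigma hF
  have hpp : p.Prime := Fact.out
  have hp := hpp.two_le
  have hpq : p ≤ q := hqf ▸ Nat.le_self_pow (by omega) p
  have hqp : p = q ∨ p * p ≤ q := by
    rcases Nat.lt_or_ge f 2 with h | h
    · left; rw [hqf, show f = 1 by omega, pow_one]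
    · right; rw [hqf, ← sq]; exact Nat.pow_le_pow_right (by omega) h
  have hq2 : q = 2 → p = 2 := fun h => le_antisymm (h ▸ hpq) hp
  let K := AlgebraicClosure F
  haveI : CharP K p := charP_of_injective_algebraMap (algebraMap F K).injective p
  let τ : K →+* K := iterateFrobenius K p f
  have hτ : ∀ x, τ x = x ^ q := fun x => by simp only [τ, iterateFrobenius_def, hqf]
  set A : Matrix (Fin d) (Fin d) F := (g : GL (Fin d) F).1 with hA
  set i : F →+* K := algebraMap F K with hi
  have hgram : (A.map i).transpose * (A.map i).map τ = 1 := by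
    have h := congrArg (fun M : Matrix (Fin d) (Fin d) F => M.map i) (Cfsg.Agent.Classical.UCount.gram_mul hσ g.2)
    simp only [Matrix.map_mul, Matrix.map_one _ (map_zero i) (map_one i)] at h
    rw [← h, Matrix.transpose_map, Matrix.map_map, Matrix.map_map]
    congr 2
    funext x
    simp [hτ, hσ.apply_eq]
  have hdet : IsUnit (A.map i).det := by
    rw [← RingHom.mapMatrix_apply, ← RingHom.map_det]
    exact ((Matrix.isUnit_iff_isUnit_det A).1 (g : GL (Fin d) F).isUnit).map i
  set χ := (A.map i).charpoly with hχ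
  have hsp := (IsAlgClosed.splits χ).eq_prod_roots_of_monic (Matrix.charpoly_monic _)
  have hcard : Multiset.card χ.roots = d := by
    rw [← (IsAlgClosed.splits χ).natDegree_eq_card_roots, hχ, Matrix.charpoly_natDegree_eq_dim, Fintype.card_fin]
  have hinj : ∀ a ∈ χ.roots, ∀ b ∈ χ.roots, phi q a = phi q b → a = b := fun a _ b _ h => by
    have h1 : τ a = τ b := by rw [hτ, hτ]; exact inv_injective h
    exact τ.injective h1
  obtain ⟨N, E, c, hN, hc, hroot, ⟨e, rfl⟩, hcount, hle⟩ :=
    exists_scalar_exponent q hp hpq hqp hq2 hd h32 hT χ.roots (roots_phi q τ hτ _ hgram) hcard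
      (fun a ha => root_ne_zero _ hdet ha) hinj
  -- the scalar lies in `F`
  obtain ⟨c₀, rfl⟩ : ∃ c₀ : F, i c₀ = c := by
    have hsub : q + 1 ∣ q ^ 2 - 1 := Dvd.intro _ (by simpa using (Nat.sq_sub_sq q 1).symm)
    obtain ⟨m, hm⟩ := hsub
    have h1 : c ^ Fintype.card F = c := by
      have h2 : c ^ (q ^ 2 - 1) = 1 := by rw [hm, pow_mul, hc, one_pow]
      calc c ^ Fintype.card F = c ^ (q ^ 2 - 1) * c := by
            rw [← pow_succ, hF, Nat.sub_add_cancel (Nat.one_le_pow _ _ (by omega))]
        _ = c := by rw [h2, one_mul]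
    have hP : (X ^ Fintype.card F - X : F[X]) ≠ 0 :=
      FiniteField.X_pow_card_sub_X_ne_zero F Fintype.one_lt_card
    have hmem : c ∈ ((X ^ Fintype.card F - X : F[X]).map i).roots := by
      rw [mem_roots ((Polynomial.map_ne_zero_iff i.injective).2 hP)]
      simp [h1]
    have hr : ((X ^ Fintype.card F - X : F[X]).roots.map i) = ((X ^ Fintype.card F - X : F[X]).map i).roots := by
      refine roots_map_of_injective_of_card_eq_natDegree i.injective ?_
      rw [FiniteField.roots_X_pow_card_sub_X, FiniteField.X_pow_card_sub_X_natDegree_eq F Fintype.one_lt_card]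
      exact Finset.card_univ
    rw [← hr, Multiset.mem_map] at hmem
    obtain ⟨c₀, -, h⟩ := hmem
    exact ⟨c₀, h⟩
  have hdvd : χ ∣ (X ^ N - C (i c₀)) ^ p ^ e := by
    have hle2 : χ.roots ≤ (p ^ e) • χ.roots.toFinset.val := Multiset.le_iff_count.2 fun a => by
      rw [Multiset.count_nsmul]
      by_cases h : a ∈ χ.roots
      · rw [Multiset.count_eq_one_of_mem χ.roots.toFinset.nodup (Multiset.mem_toFinset.2 h), mul_one]
        exact hcount a
      · rw [Multiset.count_eq_zero.2 h]; exact Nat.zero_le _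
    have h1 : (χ.roots.toFinset.val.map fun a => X - C a).prod ∣ X ^ N - C (i c₀) := by
      refine (Multiset.prod_X_sub_C_dvd_iff_le_roots (X_pow_sub_C_ne_zero hN _) _).2 ?_
      refine (Multiset.le_iff_subset χ.roots.toFinset.nodup).2 fun a ha => ?_
      rw [mem_roots (X_pow_sub_C_ne_zero hN _)]
      simp [hroot a (Multiset.mem_toFinset.1 ha)]
    conv_lhs => rw [hsp]
    refine (Multiset.prod_dvd_prod_of_le (Multiset.map_le_map hle2)).trans ?_
    rw [Multiset.map_nsmul, Multiset.prod_nsmul]
    exact pow_dvd_pow_of_dvd h1 _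
  have hzero : ((A.map i) ^ N - (i c₀) • 1) ^ p ^ e = 0 := by
    have h := aeval_eq_zero_of_dvd_aeval_eq_zero hdvd (Matrix.aeval_self_charpoly (A.map i))
    simpa [Algebra.algebraMap_eq_smul_one] using h
  haveI : Nonempty (Fin d) := ⟨⟨0, by omega⟩⟩
  haveI : CharP (Matrix (Fin d) (Fin d) K) p := charP_of_injective_algebraMap (algebraMap K (Matrix (Fin d) (Fin d) K)).injective p
  have hpow : A ^ (N * p ^ e) = (c₀ ^ p ^ e) • 1 := by
    rw [sub_pow_char_pow_of_commute p e ((Commute.one_right _).smul_right _), sub_eq_zero, ← pow_mul,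
      _root_.smul_pow, one_pow] at hzero
    apply Matrix.map_injective i.injective
    show (A ^ (N * p ^ e)).map i = ((c₀ ^ p ^ e) • (1 : Matrix (Fin d) (Fin d) F)).map i
    rw [← RingHom.mapMatrix_apply, map_pow, RingHom.mapMatrix_apply, hzero]
    ext a b
    by_cases hab : a = b <;> simp [Matrix.one_apply, hab]
  refine ⟨N * p ^ e, Nat.mul_pos hN (Nat.pow_pos (by omega)), hle, Subgroup.mem_center_iff.2 fun h => ?_⟩
  apply Subtype.ext
  apply Units.ext
  simp only [Subgroup.coe_mul, SubgroupClass.coe_pow, Units.val_mul, Units.val_pow_eq_pow_val, ← hA, hpow]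
  rw [mul_smul_comm, smul_mul_assoc, mul_one, one_mul]

end Cfsg.Agent.Small.UMaxOrd
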